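import Groth.Agent.H29Blow.IdealMod
import Groth.Agent.H17.OmegaAffine
import Groth.Agent.H17.OmegaLocal
import Groth.Agent.LeadProper.Supp

/-!
# Maps agreeing on a square-zero subscheme

If a morphism `φ : X ⟶ P` maps a closed subscheme with square-zero ideal into the closed subscheme
`Δ : Y ⟶ P`, and there is no nonzero map from the pulled back conormal module of `Δ` to the ideal,
then `φ` factors through `Δ`.
-/

set_option autoImplicit false
set_option linter.style.haveILetI false

universe u

open CategoryTheory Limits AlgebraicGeometry TopologicalSpace Opposite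

namespace Groth.Agent.H26Def

/-- A closed immersion kills the sections of its ideal. -/
theorem app_idealModι {Y Z : Scheme.{u}} (i : Y ⟶ Z) [IsClosedImmersion i] (U : Z.Opens)
    (s : Γ(ClSub.idealMod i.ker, U)) : i.app U ((ClSub.idealModι i.ker).app U s) = 0 := by
  have h : ClSub.idealModι i.ker ≫ ClSub.unitToPush i.imageι = 0 := kernel.condition _
  have h' : ClSub.idealModι i.ker ≫ ClSub.unitToPush (i.toImage ≫ i.imageι) = 0 := by
    rw [Groth.Agent.H17.OmegaAffine.unitToPush_comp, reassoc_of% h, zero_comp]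
  have := congr($(h').app U s)
  change (i.toImage ≫ i.imageι).app U ((ClSub.idealModι i.ker).app U s) = 0 at this
  rw [Scheme.Hom.congr_app i.toImage_imageι.symm U]
  show Y.presheaf.map _ ((i.toImage ≫ i.imageι).app U _) = 0
  rw [this, map_zero]

/-- A square-zero ideal kills its module. -/
theorem killedByIdeal_of_sq_eq_bot {X : Scheme.{u}} (J : X.IdealSheafData) (hJ : J ^ 2 = ⊥) :
    ClSub.KilledByIdeal J (ClSub.idealMod J) := fun U a ha m => by
  refine H29Blow.idealSect_injective J U.1 ?_
  refine (H29Blow.idealSect_smul J U.1 a m).trans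
    (Eq.trans ((Ideal.mem_bot (R := Γ(X, U.1))).1 ?_) (map_zero _).symm)
  have h2 : (J ^ 2).ideal U = ⊥ := by rw [hJ]; rfl
  rw [← h2, pow_two]
  exact Ideal.mul_mem_mul ha ((H29Blow.mem_ideal_iff_exists_idealSect J U.2 _).2 ⟨_, rfl⟩)

/-- A map taking a square-zero subscheme into `Δ` factors through `Δ` if there are no nonzero maps
from the conormal module of `Δ` to the ideal. -/
theorem ker_le_of_subsingleton {X₀ X P Y : Scheme.{u}} (Δ : Y ⟶ P) [IsClosedImmersion Δ]
    (j : X₀ ⟶ X) [IsClosedImmersion j] (hj : j.ker ^ 2 = ⊥) (φ : X ⟶ P) (g : X₀ ⟶ Y)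
    (w : j ≫ φ = g ≫ Δ)
    (h0 : Subsingleton ((Scheme.Modules.pullback g).obj (Omega.conormal Δ) ⟶ Omega.conormal j)) :
    Δ.ker ≤ φ.ker := by
  let T := Scheme.Modules.pushforward φ
  let c := ClSub.idealModι Δ.ker ≫ ClSub.unitToPush φ
  have hc : c ≫ T.map (ClSub.toSubscheme j.ker) = 0 := by
    apply Scheme.Modules.hom_ext
    intro U
    ext s
    show j.imageι.app _ (φ.app U ((ClSub.idealModι Δ.ker).app U s)) = 0
    have h2 : (j ≫ φ).app U ((ClSub.idealModι Δ.ker).app U s) = 0 := by
      rw [Scheme.Hom.congr_app w U]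
      show X₀.presheaf.map _ (g.app _ (Δ.app U ((ClSub.idealModι Δ.ker).app U s))) = 0
      rw [app_idealModι Δ U s, map_zero, map_zero]
    change j.app _ (φ.app U ((ClSub.idealModι Δ.ker).app U s)) = 0 at h2
    have h3 : (j.toImage ≫ j.imageι).app _ (φ.app U ((ClSub.idealModι Δ.ker).app U s)) = 0 := by
      rw [Scheme.Hom.congr_app j.toImage_imageι]
      show X₀.presheaf.map _ (j.app _ _) = 0
      rw [h2, map_zero]
    change j.toImage.app _ (j.imageι.app _ (φ.app U ((ClSub.idealModι Δ.ker).app U s))) = 0 at h3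
    exact (ConcreteCategory.bijective_of_isIso (j.toImage.app _)).1 (h3.trans (map_zero _).symm)
  let v : ClSub.idealMod Δ.ker ⟶ T.obj (ClSub.idealMod j.ker) :=
    kernel.lift _ c hc ≫ (PreservesKernel.iso T (ClSub.toSubscheme j.ker)).inv
  have hv : v ≫ T.map (ClSub.idealModι j.ker) = c :=
    (Category.assoc _ _ _).trans
      ((congrArg (kernel.lift _ c hc ≫ ·) (PreservesKernel.iso_inv_ι T (ClSub.toSubscheme j.ker))).trans
        (kernel.lift_ι _ c hc))
  let adj := Scheme.Modules.pullbackPushforwardAdjunction φ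
  let adjJ := Scheme.Modules.pullbackPushforwardAdjunction j
  let v' := (adj.homEquiv _ _).symm v
  let e : (Scheme.Modules.pullback g).obj (Omega.conormal Δ) ≅
      (Scheme.Modules.pullback j).obj ((Scheme.Modules.pullback φ).obj (ClSub.idealMod Δ.ker)) :=
    (Scheme.Modules.pullbackComp g Δ).app _ ≪≫ (Scheme.Modules.pullbackCongr w.symm).app _ ≪≫
      ((Scheme.Modules.pullbackComp j φ).app _).symm
  have hz : (Scheme.Modules.pullback j).map v' = 0 :=
    (cancel_epi e.hom).mp ((Subsingleton.elim (α := _ ⟶ Omega.conormal j) _ 0).trans comp_zero.symm)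
  haveI : IsIso (adjJ.unit.app (ClSub.idealMod j.ker)) :=
    LeadProper.isIso_unit_of_killedByIdeal (i := j) (ClSub.idealMod j.ker)
      (H17.OmegaLocal.isQuasicoherent_idealMod j.ker) (killedByIdeal_of_sq_eq_bot j.ker hj)
  have hv' : v' = 0 := by
    rw [← cancel_mono (adjJ.unit.app (ClSub.idealMod j.ker))]
    have := adjJ.unit.naturality v'
    simp only [Functor.comp_map, Functor.id_map, hz, Functor.map_zero, comp_zero] at this
    rw [this, zero_comp]
  have hv0 : v = 0 := by
    have : (adj.homEquiv _ _).symm v = (adj.homEquiv _ _).symm 0 := hv'.trans (by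
      rw [Adjunction.homEquiv_counit, Functor.map_zero, zero_comp])
    exact (adj.homEquiv _ _).symm.injective this
  have hc0 : c = 0 := by rw [← hv, hv0, zero_comp]
  refine Scheme.IdealSheafData.le_ofIdeals_iff.mpr fun U a ha => ?_
  obtain ⟨m, rfl⟩ := (H29Blow.mem_ideal_iff_exists_idealSect Δ.ker U.2 a).1 ha
  exact congr($(hc0).app U.1 m)

/-- Two maps to a separated scheme agreeing on a square-zero subscheme agree if there are no nonzero
maps from the differentials to the ideal. -/
theorem hom_ext_of_subsingleton {X₀ X Y S : Scheme.{u}} (q : Y ⟶ S) [IsSeparated q]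
    (j : X₀ ⟶ X) [IsClosedImmersion j] (hj : j.ker ^ 2 = ⊥) (h h' : X ⟶ Y) (hq : h ≫ q = h' ≫ q)
    (g : X₀ ⟶ Y) (hh : j ≫ h = g) (hh' : j ≫ h' = g)
    (h0 : Subsingleton ((Scheme.Modules.pullback g).obj (Omega.sheaf q) ⟶ Omega.conormal j)) :
    h = h' := by
  let φ : X ⟶ pullback q q := pullback.lift h h' hq
  have w : j ≫ φ = g ≫ pullback.diagonal q := by
    refine pullback.hom_ext ?_ ?_
    · rw [Category.assoc, Category.assoc, pullback.diagonal_fst, Category.comp_id]
      exact (congrArg (j ≫ ·) (pullback.lift_fst _ _ _)).trans hh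
    · rw [Category.assoc, Category.assoc, pullback.diagonal_snd, Category.comp_id]
      exact (congrArg (j ≫ ·) (pullback.lift_snd _ _ _)).trans hh'
  have hl := IsClosedImmersion.lift_fac (pullback.diagonal q) φ
    (ker_le_of_subsingleton (pullback.diagonal q) j hj φ g w h0)
  have h1 := congrArg (· ≫ pullback.fst q q) hl
  have h2 := congrArg (· ≫ pullback.snd q q) hl
  rw [Category.assoc, pullback.diagonal_fst, Category.comp_id] at h1
  rw [Category.assoc, pullback.diagonal_snd, Category.comp_id] at h2
  exact (pullback.lift_fst _ _ _).symm.trans ((h1.symm.trans h2).trans (pullback.lift_snd _ _ _))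

end Groth.Agent.H26Def
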