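import Groth.Agent.S11774
import Groth.Agent.S11767
import Groth.Agent.S9371
import Groth.Agent.S9372
import Groth.Agent.H24FSch.Kernels
import Groth.Agent.H10Coh.Serre
import Groth.Agent.H10Coh.SerreVanishing
import Groth.Agent.H10Coh.AffineLeray
import Groth.Agent.H10Coh.QCohOps
import Groth.Agent.H10Coh.FinType2
import Groth.Agent.H29Ref.Free
import Groth.Agent.H29Fitt.PullbackQCoh
import Groth.Agent.H17.PullSectLocal
import Groth.Agent.H16Derived.KFlat.FinLocFree
import Groth.Agent.H11P1n.Mult
import Groth.Agent.H11Tilde.StalkGen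
import Groth.Agent.H11Sym.InvertibleInverse
import Groth.Agent.H17.ConsModModels
import Groth.Agent.H10Inj.SheafExt.DualTensor
import Groth.Agent.H23Para.Restrict

/-!
# Invertible modules on square-zero thickenings with vanishing first cohomology of the ideal
-/

set_option autoImplicit false
set_option linter.style.haveILetI false

universe u

open CategoryTheory CategoryTheory.Limits AlgebraicGeometry TopologicalSpace
open Groth.Agent.H16Derived.ProjFormula Groth.Agent.H16Derived.KFlat

namespace Groth.Agent.H26Def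

attribute [local instance 10000] H10Coh.hasSheafifyAb H10Coh.hasWeakSheafifyAb H10Coh.hasExtAb
  H10Coh.enoughInjAb

theorem subsingleton_HnM_free {X : Scheme.{u}} (r n : ℕ) {U : X.Opens}
    (h : Subsingleton (H10Coh.HnM (Coh.structureModule X) n U)) :
    Subsingleton (H10Coh.HnM (FlatMod.freeMod X r) n U) := by
  classical
  let F : Fin r → X.Modules := fun _ => Coh.structureModule X
  have hsum : ∑ j, (Sigma.desc (Pi.single j (𝟙 (Coh.structureModule X)) : ∀ b, F b ⟶ _) ≫ Sigma.ι F j) = 𝟙 (∐ F) := by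
    refine Sigma.hom_ext _ _ fun b => ?_
    rw [Preadditive.comp_sum, Category.comp_id, Finset.sum_eq_single b]
    · rw [Sigma.ι_desc_assoc, Pi.single_eq_same, Category.id_comp]
    · intro j _ hj
      rw [Sigma.ι_desc_assoc, Pi.single_eq_of_ne hj.symm, zero_comp]
    · simp
  refine H10Coh.Tw.subsingleton_of_sum_eq_id (ι := Fin r) (P := fun _ => H10Coh.sh (Coh.structureModule X))
    (fun j => (H10Coh.shF X).map (Sigma.desc (Pi.single j (𝟙 (Coh.structureModule X)) : ∀ b, F b ⟶ _)))
    (fun j => (H10Coh.shF X).map (Sigma.ι F j)) ?_ (fun _ => h)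
  simp only [← Functor.map_comp, ← Functor.map_sum, hsum]
  exact (H10Coh.shF X).map_id _

theorem subsingleton_HnM_push {X Y : Scheme.{u}} (f : X ⟶ Y) [IsAffineHom f] (M : X.Modules)
    (hM : Coh.IsQCoh M) (n : ℕ) (h : Subsingleton (H10Coh.HnM M n ⊤)) :
    Subsingleton (H10Coh.HnM ((Scheme.Modules.pushforward f).obj M) n ⊤) := by
  haveI : M.IsQuasicoherent := hM
  haveI : Subsingleton (H10Coh.HnM M n (f ⁻¹ᵁ ⊤)) := h
  exact (H10Coh.affineLerayEquiv f M n ⊤).toEquiv.subsingleton

/-- A coherent module on the spectrum of a field is free of finite rank. -/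
theorem exists_iso_freeMod_of_field (k : Type u) [Field k] (V : (Spec (CommRingCat.of k)).Modules)
    (hV : Coh.IsCoh V) : ∃ r, Nonempty (V ≅ FlatMod.freeMod _ r) := by
  haveI : Subsingleton (Spec (CommRingCat.of k)) := inferInstanceAs (Subsingleton (PrimeSpectrum k))
  have hlf : FlatMod.IsFinLocFree V := H29Ref.isFinLocFree_of_free_stalk V hV fun x => by
    obtain rfl : genericPoint (Spec (CommRingCat.of k)) = x := Subsingleton.elim _ _
    exact Module.Free.of_divisionRing (Spec (CommRingCat.of k)).functionField _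
  obtain ⟨U, r, hU, ⟨e⟩⟩ := hlf (genericPoint _)
  obtain rfl : U = ⊤ := top_le_iff.1 fun x _ => by
    rw [Subsingleton.elim x (genericPoint _)]; exact hU
  let ι := (⊤ : (Spec (CommRingCat.of k)).Opens).ι
  haveI : IsIso ι := (Spec (CommRingCat.of k)).topIso.isIso_hom
  refine ⟨r, ⟨((Scheme.Modules.pullbackId _).app V).symm ≪≫
    (Scheme.Modules.pullbackCongr (IsIso.inv_hom_id ι).symm).app V ≪≫
    ((Scheme.Modules.pullbackComp (inv ι) ι).app V).symm ≪≫
    (Scheme.Modules.pullback (inv ι)).mapIso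
      ((Scheme.Modules.restrictFunctorIsoPullback ι).symm.app V ≪≫ e) ≪≫
    Stalk.freeModPullbackIso (inv ι) r⟩⟩

section

variable {X Y : Scheme.{u}}

/-- A global section that generates after pullback along a surjection generates. -/
theorem nonempty_iso_structure_of_gen {M : Y.Modules} (hM : PicF.IsInvertible M) (f : X ⟶ Y) [Surjective f]
    (s : Γ(M, ⊤)) (hs : H11Ample.gen ((Scheme.Modules.pullback f).obj M) (H11Ample.pullTop f s) = ⊤) :
    Nonempty (Coh.structureModule Y ≅ M) := by
  rw [H11P1n.gen_pullTop f hM] at hs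
  have h : H11Ample.gen M s = ⊤ := top_le_iff.1 fun y _ => by
    obtain ⟨x, rfl⟩ := f.surjective y
    exact (hs ▸ trivial : x ∈ f ⁻¹ᵁ H11Ample.gen M s)
  have hg : H11Tilde.IsGen M s := fun y hy => by
    have := H11Ample.isGen_gen (L := M) s y (h ▸ hy)
    rwa [TopCat.Presheaf.germ_res_apply] at this
  let φ := H11Tilde.homOfGlobal M s
  haveI : IsIso φ := H11Tilde.isIso_homOfGlobal M s fun V => hg.bijective le_top
  exact ⟨asIso φ⟩

theorem killed_of_killedByIdeal (τ : X ⟶ Y) [IsClosedImmersion τ] (F : Y.Modules) (hF : Coh.IsQCoh F)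
    (h : ClSub.KilledByIdeal τ.ker F) : Killed τ F := by
  haveI : IsIso ((Scheme.Modules.pullbackPushforwardAdjunction τ).unit.app F) :=
    LeadProper.isIso_unit_of_killedByIdeal (i := τ) F hF h
  exact Groth.Agent.S11774.killed_of_iso τ
    (asIso ((Scheme.Modules.pullbackPushforwardAdjunction τ).unit.app F)).symm (killed_push τ _)

/-- An ideal killed by a closed subscheme `τ` is the direct image of its restriction. -/
theorem subsingleton_HnM_idealMod (τ : X ⟶ Y) [IsClosedImmersion τ] (I : Y.IdealSheafData)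
    (hI : ClSub.KilledByIdeal τ.ker (ClSub.idealMod I))
    (h : Subsingleton (H10Coh.HnM ((Scheme.Modules.pullback τ).obj (ClSub.idealMod I)) 1 ⊤)) :
    Subsingleton (H10Coh.HnM (ClSub.idealMod I) 1 ⊤) := by
  have hq := H17.OmegaLocal.isQuasicoherent_idealMod I
  haveI : IsIso ((Scheme.Modules.pullbackPushforwardAdjunction τ).unit.app (ClSub.idealMod I)) :=
    LeadProper.isIso_unit_of_killedByIdeal (i := τ) _ hq hI
  exact H10Coh.Tw.subsingleton_of_iso
    (asIso ((Scheme.Modules.pullbackPushforwardAdjunction τ).unit.app (ClSub.idealMod I))).symm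
    (subsingleton_HnM_push τ _ (H29Fitt.isQCoh_pullback τ _ hq) 1 h)

/-- An invertible module trivial on a closed subscheme whose ideal has no first cohomology is trivial. -/
theorem nonempty_iso_structure_of_pullback (I : Y.IdealSheafData) [Surjective I.subschemeι] (τ : X ⟶ Y)
    [IsClosedImmersion τ] (hI : ClSub.KilledByIdeal τ.ker (ClSub.idealMod I)) (hle : I ≤ τ.ker)
    (hH : Subsingleton (H10Coh.HnM (ClSub.idealMod I) 1 ⊤))
    (M : Y.Modules) (hM : PicF.IsInvertible M)
    (e₁ : Coh.structureModule I.subscheme ≅ (Scheme.Modules.pullback I.subschemeι).obj M) :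
    Nonempty (Coh.structureModule Y ≅ M) := by
  let P := Scheme.Modules.pullback I.subschemeι
  let adj := Scheme.Modules.pullbackPushforwardAdjunction I.subschemeι
  have hq := H17.OmegaLocal.isQuasicoherent_idealMod I
  have hflf := H23Para.isFinLocFree_of_isInvertible hM
  haveI := H10Coh.epi_toSubscheme I
  have hT := Stalk.isFlatObj_of_isFlat (Stalk.isFlat_of_isFinLocFree hflf) _
    (H10Coh.shortExact_kernel (ClSub.toSubscheme I))
  -- the kernel
  let K := CohB1.tensorMod (ClSub.idealMod I) M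
  have hkI : Killed τ (ClSub.idealMod I) := killed_of_killedByIdeal τ _ hq hI
  let τ' := IsClosedImmersion.lift I.subschemeι τ (by rw [I.ker_subschemeι]; exact hle)
  have hτ' : τ' ≫ I.subschemeι = τ := IsClosedImmersion.lift_fac _ _ _
  let e₀ : (Scheme.Modules.pullback τ).obj M ≅ Coh.structureModule X :=
    (Scheme.Modules.pullbackCongr hτ'.symm).app M ≪≫ ((Scheme.Modules.pullbackComp τ' I.subschemeι).app M).symm ≪≫
      (Scheme.Modules.pullback τ').mapIso e₁.symm ≪≫ Stalk.structurePullbackIso τ'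
  haveI := isIso_unit_of_killed τ (Groth.Agent.S11774.killed_tensor τ hkI M)
  haveI := isIso_unit_of_killed τ hkI
  let eK : K ≅ ClSub.idealMod I :=
    asIso ((Scheme.Modules.pullbackPushforwardAdjunction τ).unit.app K) ≪≫
      (Scheme.Modules.pushforward τ).mapIso
        ((Stalk.pullTensorLIso τ M).app (ClSub.idealMod I) ≪≫
          ((DCoh.tensorBi (X := X)).obj ((Scheme.Modules.pullback τ).obj (ClSub.idealMod I))).mapIso e₀ ≪≫
          H10Coh.Tw.rightUnitIso _) ≪≫
      (asIso ((Scheme.Modules.pullbackPushforwardAdjunction τ).unit.app (ClSub.idealMod I))).symm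
  let T := (DCoh.tensorBi (X := Y)).flip.obj M
  have hsurj : Function.Surjective ((T.map (ClSub.toSubscheme I)).app ⊤) :=
    H10Coh.surjective_app_of_subsingleton_HnM hT ⊤ (H10Coh.Tw.subsingleton_of_iso eK.symm hH)
  -- identify the quotient with the restriction
  let φ : T.obj (Coh.structureModule Y) ≅ M :=
    (Groth.Agent.H28Int.tensorLeftUnitIso (X := Y)).app M
  let g := φ.inv ≫ T.map (ClSub.toSubscheme I)
  haveI : IsIso (P.map g) := by
    haveI := Groth.Agent.S11767.isIso_pullback_toSubscheme I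
    haveI : IsIso (P.map (T.map (ClSub.toSubscheme I))) :=
      (NatIso.isIso_map_iff (Stalk.pullTensorLIso I.subschemeι M) (ClSub.toSubscheme I)).2
        (inferInstanceAs (IsIso (((DCoh.tensorBi (X := I.subscheme)).flip.obj (P.obj M)).map
          (P.map (ClSub.toSubscheme I)))))
    rw [show P.map g = P.map φ.inv ≫ P.map (T.map (ClSub.toSubscheme I)) from P.map_comp _ _]
    infer_instance
  haveI : IsIso (adj.unit.app (T.obj (ClSub.quotMod I))) := isIso_unit_of_killed I.subschemeι
    (Groth.Agent.S11774.killed_tensor I.subschemeι (killed_push I.subschemeι (Coh.structureModule I.subscheme)) M)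
  have hnat : g ≫ adj.unit.app _ = adj.unit.app M ≫ (Scheme.Modules.pushforward I.subschemeι).map (P.map g) :=
    adj.unit.naturality g
  have hsurjU : Function.Surjective ((adj.unit.app M).app ⊤) := by
    intro c
    have b1 := H17.PullSect.bijective_app (adj.unit.app (T.obj (ClSub.quotMod I))) ⊤
    have b2 := H17.PullSect.bijective_app ((Scheme.Modules.pushforward I.subschemeι).map (P.map g)) ⊤
    obtain ⟨d, hd⟩ := b1.2 (((Scheme.Modules.pushforward I.subschemeι).map (P.map g)).app ⊤ c)
    obtain ⟨a, rfl⟩ := hsurj d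
    refine ⟨φ.hom.app ⊤ a, b2.1 (Eq.trans ?_ hd)⟩
    refine (congr($(hnat.symm).app ⊤ (φ.hom.app ⊤ a))).trans ?_
    show (adj.unit.app _).app ⊤ ((φ.hom ≫ g).app ⊤ a) = _
    rw [show φ.hom ≫ g = T.map (ClSub.toSubscheme I) from φ.hom_inv_id_assoc _]
    rfl
  -- lift the generator
  let s₀ : Γ(P.obj M, ⊤) := e₁.hom.app ⊤ (H11Ample.one ⊤)
  obtain ⟨s, hs⟩ := hsurjU s₀
  refine nonempty_iso_structure_of_gen hM I.subschemeι s ?_
  show H11Ample.gen (P.obj M) ((adj.unit.app M).app ⊤ s) = ⊤
  rw [hs]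
  show H11Ample.gen (P.obj M) (e₁.hom.app ⊤ (H11Ample.one ⊤)) = ⊤
  rw [H11Ample.gen_iso]
  exact top_le_iff.1 fun x hx => H11Ample.mem_gen_of_isGen (g := H11Ample.one ⊤) (W := ⊤)
    ((H11Ample.isGen_one ⊤).res le_rfl) hx

/-- Invertible modules with isomorphic restrictions are isomorphic. -/
theorem nonempty_iso_of_pullback (I : Y.IdealSheafData) [Surjective I.subschemeι] (τ : X ⟶ Y)
    [IsClosedImmersion τ] (hI : ClSub.KilledByIdeal τ.ker (ClSub.idealMod I)) (hle : I ≤ τ.ker)
    (hH : Subsingleton (H10Coh.HnM (ClSub.idealMod I) 1 ⊤))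
    (L L' : Y.Modules) (hL : PicF.IsInvertible L) (hL' : PicF.IsInvertible L')
    (e : (Scheme.Modules.pullback I.subschemeι).obj L ≅ (Scheme.Modules.pullback I.subschemeι).obj L') :
    Nonempty (L ≅ L') := by
  obtain ⟨N, hN, ⟨eN⟩⟩ := H11Sym.exists_inverse hL
  let P := Scheme.Modules.pullback I.subschemeι
  let M := CohB1.tensorMod L' N
  let e₁ : Coh.structureModule I.subscheme ≅ P.obj M :=
    (Stalk.structurePullbackIso I.subschemeι).symm ≪≫ P.mapIso (eN.symm ≪≫ H10Coh.Tw.commIso N L) ≪≫
      (Stalk.pullTensorLIso I.subschemeι N).app L ≪≫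
      H10Inj.SheafExt.tensorModIso e (Iso.refl _) ≪≫
      ((Stalk.pullTensorLIso I.subschemeι N).app L').symm
  obtain ⟨m⟩ := nonempty_iso_structure_of_pullback I τ hI hle hH M (H11Ample.isInvertible_tensor hL' hN) e₁
  exact ⟨(H10Coh.Tw.leftUnitIso L).symm ≪≫ H10Inj.SheafExt.tensorModIso m (Iso.refl L) ≪≫
    H10Coh.Tw.assoc L' N L ≪≫ H10Inj.SheafExt.tensorModIso (Iso.refl L') eN ≪≫ H10Coh.Tw.rightUnitIso L'⟩

end

end Groth.Agent.H26Def
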