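import Groth.Agent.H26Def.MonoIdeal
import Groth.Agent.H26Def.SqZero
import Groth.Agent.H10Coh.QCohOps
import Groth.Agent.H17.PullSectLocal
import Groth.Agent.H17.PrinOmega
import Groth.Agent.S9371
import Groth.Agent.S9711
import Groth.Agent.H11Aff.SubschemeCriterion
import Mathlib.Algebra.Homology.DerivedCategory.Ext.ExactSequences

/-!
# Sections of smooth morphisms over square-zero thickenings
-/

set_option autoImplicit false
set_option linter.style.haveILetI false

universe u

open CategoryTheory CategoryTheory.Limits AlgebraicGeometry TopologicalSpace Opposite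

namespace Groth.Agent.H26Def

section conormalDiff

variable {Z X Y : Scheme.{u}} (i : Z ⟶ X) [IsClosedImmersion i] {p : X ⟶ Y} {Ω : X.Modules}
  (d : OmegaSh.Der p Ω)

theorem pullSect_res' {M : X.Modules} {U V : X.Opens} (h : V ≤ U) (m : Γ(M, U)) :
    OmegaSh.pullSect i M V (M.presheaf.map (homOfLE h).op m) =
      ((Scheme.Modules.pullback i).obj M).presheaf.map (homOfLE (i.preimage_mono h)).op
        (OmegaSh.pullSect i M U m) :=
  H11Tilde.app_map_apply ((Scheme.Modules.pullbackPushforwardAdjunction i).unit.app M) h m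

theorem pullSect_smul' {M : X.Modules} (U : X.Opens) (r : Γ(X, U)) (m : Γ(M, U)) :
    OmegaSh.pullSect i M U (r • m) = i.app U r • OmegaSh.pullSect i M U m :=
  ((Scheme.Modules.pullbackPushforwardAdjunction i).unit.app M).app_smul r m

/-- The derivation restricted to the ideal, reduced modulo the ideal. -/
noncomputable def diffHom :
    ClSub.idealMod i.ker ⟶ (Scheme.Modules.pushforward i).obj ((Scheme.Modules.pullback i).obj Ω) :=
  ⟨PresheafOfModules.homMk
    { app := fun U => AddCommGrpCat.ofHom (AddMonoidHom.mk'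
        (fun s : Γ(ClSub.idealMod i.ker, U.unop) =>
          (OmegaSh.pullSect i Ω U.unop (d.app U.unop (OmegaSh.idealSect i.ker U.unop s)) :
            Γ((Scheme.Modules.pullback i).obj Ω, i ⁻¹ᵁ U.unop)))
        (fun a b => (congrArg _ ((congrArg _ (map_add _ a b)).trans (map_add _ _ _))).trans (map_add _ _ _)))
      naturality := fun U V f => by
        ext s
        have h : V.unop ≤ U.unop := leOfHom f.unop
        show OmegaSh.pullSect i Ω V.unop (d.app V.unop (OmegaSh.idealSect i.ker V.unop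
            ((ClSub.idealMod i.ker).presheaf.map (homOfLE h).op s))) =
          ((Scheme.Modules.pullback i).obj Ω).presheaf.map (homOfLE (i.preimage_mono h)).op
            (OmegaSh.pullSect i Ω U.unop (d.app U.unop (OmegaSh.idealSect i.ker U.unop s)))
        rw [H29Blow.idealSect_res, ← pullSect_res' i h]
        exact congrArg _ (d.d_map (homOfLE h).op _) }
    fun U (r : Γ(X, U.unop)) (s : Γ(ClSub.idealMod i.ker, U.unop)) => by
      show OmegaSh.pullSect i Ω U.unop (d.app U.unop (OmegaSh.idealSect i.ker U.unop (r • s))) =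
        i.app U.unop r • OmegaSh.pullSect i Ω U.unop (d.app U.unop (OmegaSh.idealSect i.ker U.unop s))
      rw [H29Blow.idealSect_smul, show d.app U.unop (r * OmegaSh.idealSect i.ker U.unop s) =
        r • d.app U.unop (OmegaSh.idealSect i.ker U.unop s) +
          OmegaSh.idealSect i.ker U.unop s • d.app U.unop r from d.d_mul r _, map_add, pullSect_smul',
        pullSect_smul', show i.app U.unop (OmegaSh.idealSect i.ker U.unop s) = 0 from
          app_idealModι i U.unop s]
      exact (congrArg (_ + ·) (zero_smul Γ(Z, i ⁻¹ᵁ U.unop) _)).trans (add_zero _)⟩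

/-- Existence of the map from the conormal sheaf to the restricted differentials. -/
theorem exists_isConormalDiff :
    ∃ φ : Omega.conormal i ⟶ (Scheme.Modules.pullback i).obj Ω, OmegaSh.IsConormalDiff i d φ := by
  let adj := Scheme.Modules.pullbackPushforwardAdjunction i
  refine ⟨(adj.homEquiv _ _).symm (diffHom i d), fun U s => ?_⟩
  have h : adj.unit.app _ ≫ (Scheme.Modules.pushforward i).map ((adj.homEquiv _ _).symm (diffHom i d)) =
      diffHom i d := by
    exact (adj.homEquiv_unit _ _ _).symm.trans (Equiv.apply_symm_apply _ _)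
  exact congr($(h).app U s)

end conormalDiff

theorem isIso_unit_id {Z : Scheme.{u}} (M : Z.Modules) (hM : M.IsQuasicoherent) :
    IsIso ((Scheme.Modules.pullbackPushforwardAdjunction (𝟙 Z)).unit.app M) :=
  LeadProper.isIso_unit_of_killedByIdeal (i := 𝟙 Z) M hM fun U a ha m => by
    have h0 : (𝟙 Z : Z ⟶ Z).app U.1 a = 0 := by
      rw [Scheme.Hom.ker_apply] at ha
      exact ha
    change a = 0 at h0
    rw [h0]
    exact zero_smul Γ(Z, U.1) m

set_option backward.isDefEq.respectTransparency false in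
/-- A morphism with a section over a square-zero thickening has a section if the obstruction group vanishes. -/
theorem exists_section {X₀ X P : Scheme.{u}} (p : P ⟶ X) [Smooth p] [IsSeparated p] (i : X₀ ⟶ P)
    (j : X₀ ⟶ X) [IsClosedImmersion i] [IsClosedImmersion j] (hij : i ≫ p = j) (hj : j.ker ^ 2 = ⊥)
    [HasExt.{u} X₀.Modules]
    (h1 : Subsingleton (Abelian.Ext.{u} ((Scheme.Modules.pullback i).obj (Omega.sheaf p)) (Omega.conormal j) 1)) :
    ∃ s : X ⟶ P, j ≫ s = i ∧ s ≫ p = 𝟙 X := by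
  obtain ⟨ψ, hψ, -⟩ := S9371.result i j p (𝟙 X₀) (by rw [Category.id_comp, hij])
  let d := OmegaSh.dOmega p
  obtain ⟨φ, hφ⟩ := exists_isConormalDiff i d
  obtain ⟨w, hS⟩ := S9711.result p i j hij _ d (H17.PrinOmega.isUniversal_dOmega p) ψ hψ φ hφ
  haveI hqj : (Omega.conormal j).IsQuasicoherent :=
    H29Fitt.isQCoh_pullback j _ (H17.OmegaLocal.isQuasicoherent_idealMod j.ker)
  let adj₁ := Scheme.Modules.pullbackPushforwardAdjunction (𝟙 X₀)
  haveI := isIso_unit_id (Omega.conormal j) hqj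
  -- the vanishing gives a retraction
  let C₁ := (Scheme.Modules.pullback (𝟙 X₀)).obj (Omega.conormal j)
  let e : Omega.conormal j ≅ C₁ := ((Scheme.Modules.pullbackId X₀).app (Omega.conormal j)).symm
  haveI : Subsingleton (Abelian.Ext.{u} ((Scheme.Modules.pullback i).obj (Omega.sheaf p)) C₁ 1) := by
    refine ⟨fun a b => ?_⟩
    have h := congrArg (fun z => z.comp (Abelian.Ext.mk₀ e.hom) (add_zero 1))
      (@Subsingleton.elim _ h1 (a.comp (Abelian.Ext.mk₀ e.inv) (add_zero 1))
        (b.comp (Abelian.Ext.mk₀ e.inv) (add_zero 1)))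
    simpa using h
  obtain ⟨x₂, hx₂⟩ := Abelian.Ext.covariant_sequence_exact₃
    ((Scheme.Modules.pullback i).obj (Omega.sheaf p)) hS (Abelian.Ext.mk₀ (𝟙 _)) (zero_add 1) (Subsingleton.elim _ _)
  obtain ⟨σ₀, rfl⟩ := (Abelian.Ext.mk₀_bijective _ _).2 x₂
  rw [Abelian.Ext.mk₀_comp_mk₀] at hx₂
  let σ := ShortComplex.Splitting.ofExactOfSection _ hS.exact σ₀ ((Abelian.Ext.mk₀_bijective _ _).1 hx₂) hS.mono_f
  let r : Omega.conormal i ⟶ C₁ := σ.r
  have hr : ψ ≫ r = 𝟙 C₁ := σ.f_r
  -- the ideal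
  let adji := Scheme.Modules.pullbackPushforwardAdjunction i
  let q : ClSub.idealMod i.ker ⟶ (Scheme.Modules.pushforward i).obj C₁ :=
    adji.unit.app (ClSub.idealMod i.ker) ≫ (Scheme.Modules.pushforward i).map r
  haveI : (ClSub.idealMod i.ker).IsQuasicoherent := H17.OmegaLocal.isQuasicoherent_idealMod i.ker
  haveI : C₁.IsQuasicoherent := H29Fitt.isQCoh_pullback (𝟙 X₀) _ hqj
  haveI : ((Scheme.Modules.pushforward i).obj C₁).IsQuasicoherent := H10Coh.isQuasicoherent_pushforward i _
  let K := imageData (kernel.ι q ≫ ClSub.idealModι i.ker) (H10Coh.isQuasicoherent_kernel q)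
  -- `q` on sections
  have hq : ∀ (W : P.Opens) (m : Γ(ClSub.idealMod i.ker, W)),
      q.app W m = r.app (i ⁻¹ᵁ W) (OmegaSh.conormalSect i W m) := fun W m => rfl
  have hmemK : ∀ (W : P.affineOpens) (a : Γ(P, W.1)),
      a ∈ K.ideal W ↔ ∃ m, q.app W.1 m = 0 ∧ OmegaSh.idealSect i.ker W.1 m = a := by
    intro W a
    refine (mem_imageData _ _ W a).trans ⟨fun ⟨m, hm⟩ => ⟨_, ?_, hm⟩, fun ⟨m, hm, ha⟩ => ?_⟩
    · show (kernel.ι q ≫ q).app W.1 m = 0
      rw [kernel.condition]; rfl
    · obtain ⟨y, hy⟩ := H29Blow.exists_kernelι_app_eq q W.1 m hm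
      refine ⟨y, ?_⟩
      subst hy
      exact ha
  have hle : K ≤ i.ker := fun W a ha => by
    obtain ⟨m, -, rfl⟩ := (hmemK W a).1 ha
    exact (H29Blow.mem_ideal_iff_exists_idealSect i.ker W.2 _).2 ⟨m, rfl⟩
  -- local computation
  have key : ∀ (U : X.Opens) (W : P.Opens) (hU : IsAffineOpen U) (hW : IsAffineOpen W) (hWU : W ≤ p ⁻¹ᵁ U)
      (_ : i ⁻¹ᵁ W = j ⁻¹ᵁ U),
      (∀ b : Γ(P, W), ∃ a : Γ(X, U), b - p.appLE U W hWU a ∈ K.ideal ⟨W, hW⟩) ∧
        ∀ a : Γ(X, U), p.appLE U W hWU a ∈ K.ideal ⟨W, hW⟩ → a = 0 := by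
    intro U W hU hW hWU hpre
    have hiapp : ∀ a : Γ(X, U),
        i.app W (p.appLE U W hWU a) = X₀.presheaf.map (homOfLE hpre.le).op (j.app U a) := by
      intro a
      have h1 : i.app W = i.appLE W (i ⁻¹ᵁ W) le_rfl := by rw [Scheme.Hom.app_eq_appLE]
      have h2 : p.appLE U W hWU ≫ i.app W = j.app U ≫ X₀.presheaf.map (homOfLE hpre.le).op := by
        rw [h1, Scheme.Hom.appLE_comp_appLE, Scheme.Hom.app_eq_appLE, Scheme.Hom.appLE_map]
        subst hij
        rfl
      exact congr($h2 a)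
    -- the class of an element of the ideal of `j`
    let T : Γ(ClSub.idealMod j.ker, U) → Γ(C₁, i ⁻¹ᵁ W) := fun s =>
      C₁.presheaf.map (homOfLE hpre.le).op
        (OmegaSh.pullSect (𝟙 X₀) (Omega.conormal j) (j ⁻¹ᵁ U) (OmegaSh.conormalSect j U s))
    haveI := LeadProper.isIso_unit_of_killedByIdeal (i := j) (ClSub.idealMod j.ker)
      (H17.OmegaLocal.isQuasicoherent_idealMod j.ker) (killedByIdeal_of_sq_eq_bot j.ker hj)
    have hT : Function.Bijective T := by
      have b1 : Function.Bijective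
          (((Scheme.Modules.pullbackPushforwardAdjunction j).unit.app (ClSub.idealMod j.ker)).app U) :=
        H17.PullSect.bijective_app _ U
      have b2 : Function.Bijective ((adj₁.unit.app (Omega.conormal j)).app (j ⁻¹ᵁ U)) :=
        H17.PullSect.bijective_app _ _
      have b3 : Function.Bijective (C₁.presheaf.map (homOfLE hpre.le).op) := by
        have : IsIso (homOfLE hpre.le) := ⟨homOfLE hpre.ge, rfl, rfl⟩
        exact ConcreteCategory.bijective_of_isIso _
      exact b3.comp (b2.comp b1)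
    have hexist : ∀ s : Γ(ClSub.idealMod j.ker, U), ∃ m, q.app W m = T s ∧
        OmegaSh.idealSect i.ker W m = p.appLE U W hWU (OmegaSh.idealSect j.ker U s) := by
      intro s
      have h0 : i.app (p ⁻¹ᵁ U) (p.app U (OmegaSh.idealSect j.ker U s)) = 0 := by
        show (i ≫ p).app U ((ClSub.idealModι j.ker).app U s) = 0
        rw [Scheme.Hom.congr_app hij U]
        show X₀.presheaf.map _ (j.app U _) = 0
        rw [app_idealModι j U s, map_zero]
      have h0' : (ClSub.toSubscheme i.ker).app (p ⁻¹ᵁ U)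
          (show Γ(Coh.structureModule P, p ⁻¹ᵁ U) from p.app U (OmegaSh.idealSect j.ker U s)) = 0 := by
        show i.imageι.app _ (p.app U (OmegaSh.idealSect j.ker U s)) = 0
        have h3 : (i.toImage ≫ i.imageι).app _ (p.app U (OmegaSh.idealSect j.ker U s)) = 0 := by
          rw [Scheme.Hom.congr_app i.toImage_imageι]
          show X₀.presheaf.map _ (i.app _ _) = 0
          rw [h0, map_zero]
        change i.toImage.app _ (i.imageι.app _ (p.app U (OmegaSh.idealSect j.ker U s))) = 0 at h3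
        exact (ConcreteCategory.bijective_of_isIso (i.toImage.app _)).1 (h3.trans (map_zero _).symm)
      obtain ⟨y, hy⟩ := H29Blow.exists_kernelι_app_eq (ClSub.toSubscheme i.ker) _ _ h0'
      have hy' : OmegaSh.idealSect i.ker (p ⁻¹ᵁ U) y = p.app U (OmegaSh.idealSect j.ker U s) := hy
      refine ⟨(ClSub.idealMod i.ker).presheaf.map (homOfLE hWU).op y, ?_, ?_⟩
      · rw [hq]
        have hc := hψ.2 U s y hy' (i ⁻¹ᵁ W) hpre.le (i.preimage_mono hWU)
        have e1 : OmegaSh.conormalSect i W ((ClSub.idealMod i.ker).presheaf.map (homOfLE hWU).op y) =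
            (Omega.conormal i).presheaf.map (homOfLE (i.preimage_mono hWU)).op
              (OmegaSh.conormalSect i (p ⁻¹ᵁ U) y) := pullSect_res' i hWU y
        refine (congrArg (r.app (i ⁻¹ᵁ W)) (e1.trans hc.symm)).trans ?_
        refine (H11Tilde.app_map_apply r hpre.le _).trans (congrArg _ ?_)
        exact congr($(hr).app (j ⁻¹ᵁ U)
          (OmegaSh.pullSect (𝟙 X₀) (Omega.conormal j) (j ⁻¹ᵁ U) (OmegaSh.conormalSect j U s)))
      · rw [H29Blow.idealSect_res, hy']
        rfl
    refine ⟨fun b => ?_, fun a ha => ?_⟩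
    · obtain ⟨a₀, ha₀⟩ := j.app_surjective U hU (X₀.presheaf.map (homOfLE hpre.ge).op (i.app W b))
      have h0 : i.app W (b - p.appLE U W hWU a₀) = 0 := by
        rw [map_sub, hiapp, ha₀, sub_eq_zero, ← ConcreteCategory.comp_apply, ← Functor.map_comp,
          show (homOfLE hpre.ge).op ≫ (homOfLE hpre.le).op = 𝟙 _ from rfl, CategoryTheory.Functor.map_id]
        rfl
      obtain ⟨m, hm⟩ := (H29Blow.mem_ideal_iff_exists_idealSect i.ker hW _).1
        (show b - p.appLE U W hWU a₀ ∈ i.ker.ideal ⟨W, hW⟩ by rw [Scheme.Hom.ker_apply]; exact h0)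
      obtain ⟨s, hs⟩ := hT.2 (q.app W m)
      obtain ⟨m', hm'q, hm'⟩ := hexist s
      refine ⟨a₀ + OmegaSh.idealSect j.ker U s, (hmemK ⟨W, hW⟩ _).2 ⟨m - m', ?_, ?_⟩⟩
      · rw [map_sub, hm'q, hs, sub_self]
      · rw [map_sub, hm, hm', map_add]
        ring
    · obtain ⟨m, hm0, hm⟩ := (hmemK ⟨W, hW⟩ _).1 ha
      have h0 : j.app U a = 0 := by
        have h1 : i.app W (p.appLE U W hWU a) = 0 := by
          rw [← hm]
          exact app_idealModι i W m
        rw [hiapp] at h1
        have h2 := congrArg (X₀.presheaf.map (homOfLE hpre.ge).op) h1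
        rw [← ConcreteCategory.comp_apply, ← Functor.map_comp,
          show (homOfLE hpre.le).op ≫ (homOfLE hpre.ge).op = 𝟙 _ from rfl, CategoryTheory.Functor.map_id,
          map_zero] at h2
        exact h2
      obtain ⟨s, rfl⟩ := (H29Blow.mem_ideal_iff_exists_idealSect j.ker hU a).1
        (show a ∈ j.ker.ideal ⟨U, hU⟩ by rw [Scheme.Hom.ker_apply]; exact h0)
      obtain ⟨m', hm'q, hm'⟩ := hexist s
      have : m' = m := H29Blow.idealSect_injective i.ker W (hm'.trans hm.symm)
      subst this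
      have : s = 0 := hT.1 (by
        rw [← hm'q, hm0]
        simp only [T, map_zero])
      rw [this, map_zero]
  -- the subscheme
  haveI : Surjective j := ⟨by
    rw [← Set.range_eq_univ, ← j.isClosedEmbedding.isClosed_range.closure_eq, ← Scheme.Hom.support_ker]
    have h2 : ((j.ker ^ 2).support : Set X) = Set.univ := by simp [hj]
    have h3 : ((j.ker * j.ker).support : Set X) = j.ker.support := by simp
    rw [pow_two, h3] at h2
    exact h2⟩
  let θ : K.subscheme ⟶ X := K.subschemeι ≫ p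
  -- a lift of `i` to the subscheme
  let i' : X₀ ⟶ K.subscheme :=
    IsClosedImmersion.lift K.subschemeι i (by rw [K.ker_subschemeι]; exact hle)
  have hi' : i' ≫ K.subschemeι = i := IsClosedImmersion.lift_fac _ _ _
  have hsupp : ∀ z : K.subscheme, ∃ x : X₀, i' x = z := by
    intro z
    by_contra hno
    push Not at hno
    have hz : K.subschemeι z ∈ (⟨(Set.range i)ᶜ, i.isClosedEmbedding.isClosed_range.isOpen_compl⟩ : P.Opens) := by
      rintro ⟨x, hx⟩
      refine hno x (K.subschemeι.isClosedEmbedding.injective ?_)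
      rw [← Scheme.Hom.comp_apply, hi', hx]
    obtain ⟨W, hW, hzW, hWle⟩ := exists_isAffineOpen_mem_and_subset hz
    have hpre : i ⁻¹ᵁ W = ⊥ :=
      Opens.ext (Set.eq_empty_iff_forall_notMem.2 fun x hx => hWle hx ⟨x, rfl⟩)
    haveI : Subsingleton Γ(C₁, i ⁻¹ᵁ W) := subsingleton_of_forall_eq 0 fun a =>
      TopCat.Sheaf.eq_of_locally_eq' (⟨C₁.presheaf, C₁.isSheaf⟩ : TopCat.Sheaf AddCommGrpCat.{u} X₀)
        (fun k : PEmpty.{u + 1} => k.elim) (i ⁻¹ᵁ W)
        (fun k => k.elim) (hpre ▸ bot_le) _ _ fun k => k.elim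
    have h1mem : (1 : Γ(P, W)) ∈ K.ideal ⟨W, hW⟩ := by
      obtain ⟨m, hm⟩ := (H29Blow.mem_ideal_iff_exists_idealSect i.ker hW 1).1 (by
        rw [Scheme.Hom.ker_apply]
        haveI := H11Aff.SubschemeCriterion.subsingleton_of_bot hpre
        exact Subsingleton.elim (α := Γ(X₀, i ⁻¹ᵁ W)) _ _)
      exact (hmemK ⟨W, hW⟩ 1).2 ⟨m, Subsingleton.elim (α := Γ(C₁, i ⁻¹ᵁ W)) _ _, hm⟩
    have hz' : K.subschemeι z ∈ K.support := by
      rw [← SetLike.mem_coe, ← K.range_subschemeι]; exact ⟨z, rfl⟩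
    rw [K.mem_support_iff_of_mem (U := ⟨W, hW⟩) hzW] at hz'
    simp only [Scheme.mem_zeroLocus_iff] at hz'
    exact hz' 1 h1mem (by rw [Scheme.basicOpen_of_isUnit _ isUnit_one]; exact hzW)
  -- `θ` is an isomorphism
  let 𝒰 := {U : X.affineOpens // ∃ W : P.Opens, IsAffineOpen W ∧ ∃ hWU : W ≤ p ⁻¹ᵁ U.1,
    (∀ x, j x ∈ U.1 → i x ∈ W)}
  have hcov : ⨆ U : 𝒰, U.1.1 = ⊤ := by
    refine top_le_iff.1 fun x _ => ?_
    obtain ⟨x₀, rfl⟩ := j.surjective x
    obtain ⟨_, ⟨U, hU, rfl⟩, hxU, -⟩ := X.isBasis_affineOpens.exists_subset_of_mem_open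
      (Set.mem_univ (j x₀)) isOpen_univ
    have hxp : i x₀ ∈ p ⁻¹ᵁ U := by
      show p (i x₀) ∈ U
      rw [← Scheme.Hom.comp_apply, hij]; exact hxU
    obtain ⟨W, hW, hxW, hWle⟩ := exists_isAffineOpen_mem_and_subset hxp
    let O : X.Opens := ⟨(j '' (i ⁻¹' (W : Set P))ᶜ)ᶜ,
      (j.isClosedEmbedding.isClosedMap _ ((W.isOpen.preimage i.continuous).isClosed_compl)).isOpen_compl⟩
    have hxO : j x₀ ∈ O := by
      rintro ⟨y, hy, hyx⟩
      exact hy (show i y ∈ W by rw [j.isClosedEmbedding.injective hyx]; exact hxW)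
    obtain ⟨f, hfle, hxf⟩ := hU.exists_basicOpen_le ⟨j x₀, hxO⟩ hxU
    let g := p.appLE U W hWle f
    have hg : P.basicOpen g = W ⊓ p ⁻¹ᵁ X.basicOpen f := by
      rw [show g = P.presheaf.map (homOfLE hWle).op (p.app U f) from rfl, Scheme.basicOpen_res,
        Scheme.preimage_basicOpen]
    refine Opens.mem_iSup.2 ⟨⟨⟨X.basicOpen f, hU.basicOpen f⟩, P.basicOpen g, hW.basicOpen g,
      hg.trans_le inf_le_right, fun y hy => ?_⟩, hxf⟩
    rw [hg]
    refine ⟨by_contra fun h => hfle hy ⟨y, h, rfl⟩, ?_⟩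
    show p (i y) ∈ X.basicOpen f
    rw [← Scheme.Hom.comp_apply, hij]; exact hy
  have hθp : ∀ (U : X.Opens) (W : P.Opens), W ≤ p ⁻¹ᵁ U → (∀ x, j x ∈ U → i x ∈ W) →
      θ ⁻¹ᵁ U = K.subschemeι ⁻¹ᵁ W := by
    intro U W hWU hmem
    ext z
    obtain ⟨x, rfl⟩ := hsupp z
    show p (K.subschemeι (i' x)) ∈ U ↔ K.subschemeι (i' x) ∈ W
    rw [← Scheme.Hom.comp_apply i', hi', ← Scheme.Hom.comp_apply, hij]
    exact ⟨hmem x, fun h => by rw [← hij]; exact hWU h⟩
  haveI : IsIso θ := by
    refine HasAffineProperty.of_iSup_eq_top (P := MorphismProperty.isomorphisms Scheme)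
      (fun U : 𝒰 => U.1) hcov ?_
    rintro ⟨⟨U, hU⟩, W, hW, hWU, hmem⟩
    have hpre : i ⁻¹ᵁ W = j ⁻¹ᵁ U := le_antisymm
      (fun x hx => show j x ∈ U by rw [← hij]; exact hWU hx) hmem
    have hθ := hθp U W hWU hmem
    refine ⟨?_, ?_⟩
    · show IsAffine (θ ⁻¹ᵁ U).toScheme
      rw [hθ]
      exact hW.preimage K.subschemeι
    · simp only [Opens.map_top, morphismRestrict_app]
      refine IsIso.comp_isIso' ?_ inferInstance
      have hbij : Function.Bijective (θ.appLE U (K.subschemeι ⁻¹ᵁ W) hθ.ge) := by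
        have hc : θ.appLE U (K.subschemeι ⁻¹ᵁ W) hθ.ge = p.appLE U W hWU ≫ K.subschemeι.app W := by
          rw [Scheme.Hom.app_eq_appLE, Scheme.Hom.appLE_comp_appLE]
        obtain ⟨k1, k2⟩ := key U W hU hW hWU hpre
        have hker : ∀ b : Γ(P, W), b ∈ K.ideal ⟨W, hW⟩ ↔ K.subschemeι.app W b = 0 := fun b => by
          conv_lhs => rw [← K.ker_subschemeι]
          rw [Scheme.Hom.ker_apply]; rfl
        rw [hc]
        constructor
        · intro a a' h
          refine sub_eq_zero.1 (k2 (a - a') ((hker _).2 ?_))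
          rw [map_sub, map_sub, sub_eq_zero]
          exact h
        · intro c
          obtain ⟨b, rfl⟩ := K.subschemeι.app_surjective W hW c
          obtain ⟨a, ha⟩ := k1 b
          have := (hker _).1 ha
          rw [map_sub, sub_eq_zero] at this
          exact ⟨a, this.symm⟩
      haveI := (ConcreteCategory.isIso_iff_bijective _).2 hbij
      have h2 : θ.app U = θ.appLE U (K.subschemeι ⁻¹ᵁ W) hθ.ge ≫
          K.subscheme.presheaf.map (eqToHom hθ).op := by
        rw [Scheme.Hom.app_eq_appLE, Scheme.Hom.appLE_map]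
      have h3 : IsIso (θ.app U) := h2 ▸ inferInstance
      convert! h3 using 0
      exact congr(IsIso (θ.app $(Scheme.Opens.ι_image_top _)))
  refine ⟨inv θ ≫ K.subschemeι, ?_, ?_⟩
  · have : j = i' ≫ θ := by rw [← Category.assoc, hi', hij]
    rw [this, Category.assoc, IsIso.hom_inv_id_assoc, hi']
  · rw [Category.assoc]
    exact IsIso.inv_hom_id θ

end Groth.Agent.H26Def
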