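import Groth.Agent.H29Fitt.Sheaf
import Groth.Agent.H11Tilde.ModLoc
import Groth.Prelude.Def_Omega3

/-!
# The ideal sheaf of a quasi-coherent submodule of the structure sheaf
-/

set_option autoImplicit false
set_option linter.style.haveILetI false

universe u

open CategoryTheory AlgebraicGeometry

namespace Groth.Agent.H26Def

variable {X : Scheme.{u}} {M : X.Modules} (ι : M ⟶ Coh.structureModule X)

/-- The image on sections. -/
noncomputable def imageIdeal (U : X.Opens) : Ideal Γ(X, U) where
  carrier := Set.range fun m : Γ(M, U) => OmegaSh.fnSect X U (ι.app U m)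
  add_mem' := by
    rintro _ _ ⟨a, rfl⟩ ⟨b, rfl⟩
    exact ⟨a + b, by simp [map_add]⟩
  zero_mem' := ⟨0, by simp [map_zero]⟩
  smul_mem' := by
    rintro c _ ⟨a, rfl⟩
    exact ⟨c • a, congrArg (OmegaSh.fnSect X U) (ι.app_smul c a)⟩

variable (hM : M.IsQuasicoherent)

/-- The ideal sheaf of a quasi-coherent submodule of `O`. -/
noncomputable def imageData : X.IdealSheafData :=
  { ideal := fun U => imageIdeal ι U.1
    map_ideal_basicOpen := fun U t => by
      refine le_antisymm (Ideal.map_le_iff_le_comap.2 ?_) ?_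
      · rintro _ ⟨m, rfl⟩
        exact ⟨M.presheaf.map (homOfLE (X.basicOpen_le t)).op m,
          (congrArg (OmegaSh.fnSect X _) (H11Tilde.app_map_apply ι (X.basicOpen_le t) m))⟩
      · rintro _ ⟨m, rfl⟩
        obtain ⟨n, s', hs'⟩ := H29Blow.exists_pow_smul_eq_res M hM U.2 t m
        let ρ := (X.presheaf.map (homOfLE (X.basicOpen_le t)).op).hom
        have hu : IsUnit (ρ t ^ n) := by
          haveI := U.2.isLocalization_basicOpen t
          exact (IsLocalization.Away.algebraMap_isUnit (S := Γ(X, X.basicOpen t)) t).pow n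
        have h := congrArg (fun z => OmegaSh.fnSect X _ (ι.app (X.basicOpen t) z)) hs'
        have h1 : ρ (OmegaSh.fnSect X U.1 (ι.app U.1 s')) =
            ρ t ^ n * OmegaSh.fnSect X _ (ι.app (X.basicOpen t) m) := by
          refine Eq.trans ?_ (h.trans ?_)
          · exact (congrArg (OmegaSh.fnSect X _) (H11Tilde.app_map_apply ι (X.basicOpen_le t) s')).symm
          · refine (congrArg (OmegaSh.fnSect X _) (ι.app_smul _ m)).trans ?_
            rw [← map_pow]
            rfl
        have hmem : ρ t ^ n * OmegaSh.fnSect X _ (ι.app (X.basicOpen t) m) ∈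
            (imageIdeal ι U.1).map ρ := h1 ▸ Ideal.mem_map_of_mem ρ ⟨s', rfl⟩
        exact (Ideal.unit_mul_mem_iff_mem _ hu).1 hmem }

theorem mem_imageData (U : X.affineOpens) (a : Γ(X, U.1)) :
    a ∈ (imageData ι hM).ideal U ↔ ∃ m : Γ(M, U.1), OmegaSh.fnSect X U.1 (ι.app U.1 m) = a :=
  Iff.rfl

end Groth.Agent.H26Def
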