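import Groth.Agent.H15Site.Godement
import Groth.Agent.H10Coh.Kill

/-!
# Two-cocycles on a cover and second cohomology
-/

set_option autoImplicit false
set_option linter.style.haveILetI false

universe u

open CategoryTheory CategoryTheory.Limits Opposite TopologicalSpace Abelian

namespace Groth.Agent.H26Def.CechTwo

open Groth.Agent.H10Coh Groth.Agent.H15Site

attribute [local instance 10000] hasSheafifyAb hasWeakSheafifyAb hasExtAb enoughInjAb

variable {X : TopCat.{u}}

/-- Restriction of sections. -/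
noncomputable abbrev res (F : CohTop.Ab X) {U V : Opens X} (h : V ≤ U) : F.obj.obj (op U) →+ F.obj.obj (op V) :=
  (F.obj.map (homOfLE h).op).hom

theorem res_res (F : CohTop.Ab X) {U V W : Opens X} (h : V ≤ U) (h' : W ≤ V) (x : F.obj.obj (op U)) :
    res F h' (res F h x) = res F (h'.trans h) x := by
  show (F.obj.map _) ((F.obj.map _) x) = _
  rw [← ConcreteCategory.comp_apply, ← Functor.map_comp]
  rfl

theorem res_app {F G : CohTop.Ab X} (φ : F ⟶ G) {U V : Opens X} (h : V ≤ U) (x : F.obj.obj (op U)) :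
    φ.hom.app (op V) (res F h x) = res G h (φ.hom.app (op U) x) :=
  ConcreteCategory.congr_hom (φ.hom.naturality (homOfLE h).op) x

theorem exists_sections_of_app_eq_zero {S : ShortComplex (CohTop.Ab X)} (hS : S.ShortExact) (U : Opens X)
    (z : S.X₂.obj.obj (op U)) (hz : S.g.hom.app (op U) z = 0) : ∃ y, S.f.hom.app (op U) y = z := by
  have := hS.mono_f
  let φ : Zsh U ⟶ S.X₂ := (sect U S.X₂).symm z
  have hφ : φ ≫ S.g = 0 := by
    refine (sect U S.X₃).injective ((sect_comp φ _).trans ?_)
    refine Eq.trans ?_ (map_zero (sect U S.X₃)).symm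
    exact (congrArg _ ((sect U S.X₂).apply_symm_apply z)).trans hz
  exact ⟨sect U S.X₁ (hS.exact.lift φ hφ),
    (sect_comp (hS.exact.lift φ hφ) _).symm.trans
      ((congrArg (sect U S.X₂) (hS.exact.lift_f φ hφ)).trans ((sect U S.X₂).apply_symm_apply z))⟩

/-- The Godement embedding. -/
noncomputable def toG (F : CohTop.Ab X) : F ⟶ (Godement.god (X := X)).obj F := Godement.toGod.app F

/-- The sequence of the Godement embedding. -/
noncomputable def godSeq (F : CohTop.Ab X) : ShortComplex (CohTop.Ab X) :=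
  ShortComplex.mk (toG F) (cokernel.π _) (cokernel.condition _)

theorem godSeq_shortExact (F : CohTop.Ab X) : (godSeq F).ShortExact :=
  { exact := ShortComplex.exact_of_g_is_cokernel _ (cokernelIsCokernel _)
    mono_f := Godement.mono_toGod F
    epi_g := inferInstanceAs (Epi (cokernel.π _)) }

theorem subsingleton_god (F : CohTop.Ab X) (n : ℕ) (U : Opens X) :
    Subsingleton (Hn ((Godement.god (X := X)).obj F) (n + 1) U) :=
  subsingleton_of_flasque (Godement.flasque_god F) n U

/-- The quotient by the Godement sheaf shifts cohomology down. -/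
theorem subsingleton_X₃ (F : CohTop.Ab X) (n : ℕ) (U : Opens X) (h : Subsingleton (Hn F (n + 2) U)) :
    Subsingleton (Hn (godSeq F).X₃ (n + 1) U) := by
  have hS := godSeq_shortExact F
  haveI : Subsingleton (Ext.{u} (Zsh U) (godSeq F).X₂ (n + 1)) := subsingleton_god F n U
  refine subsingleton_of_forall_eq 0 fun x => ?_
  obtain ⟨y, hy⟩ := Ext.covariant_sequence_exact₃ (Zsh U) hS x rfl (h.elim _ _)
  rw [← hy, Subsingleton.elim y 0, Ext.zero_comp]

variable {ι : Type u} {V : ι → Opens X}

/-- One-cocycles are coboundaries when the first cohomology vanishes. -/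
theorem exists_zero_cochain (hV : ⨆ a, V a = ⊤) (Q : CohTop.Ab X) (hQ : Subsingleton (Hn Q 1 ⊤))
    (z : ∀ a b, Q.obj.obj (op (V a ⊓ V b)))
    (hz : ∀ a b d (T : Opens X) (ha : T ≤ V a) (hb : T ≤ V b) (hd : T ≤ V d),
      res Q (le_inf hb hd) (z b d) - res Q (le_inf ha hd) (z a d) + res Q (le_inf ha hb) (z a b) = 0) :
    ∃ q : ∀ a, Q.obj.obj (op (V a)), ∀ a b, res Q inf_le_left (q a) - res Q inf_le_right (q b) = z a b := by
  have hk : ∀ x : X, ∃ a, x ∈ V a := fun x => Opens.mem_iSup.1 (hV ▸ trivial)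
  choose k hk using hk
  let G := (Godement.god (X := X)).obj Q
  let q' : ∀ a, G.obj.obj (op (V a)) := fun a x =>
    (TopCat.Presheaf.germ Q.obj (V a ⊓ V (k x.1)) x.1 ⟨x.2, hk x.1⟩).hom (z a (k x.1))
  have hS := godSeq_shortExact Q
  have hq' : ∀ a b, res G inf_le_left (q' a) - res G inf_le_right (q' b) =
      (toG Q).hom.app (op (V a ⊓ V b)) (z a b) := by
    intro a b
    funext x
    show (TopCat.Presheaf.germ Q.obj _ x.1 _).hom (z a (k x.1)) - (TopCat.Presheaf.germ Q.obj _ x.1 _).hom (z b (k x.1)) =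
      (TopCat.Presheaf.germ Q.obj (V a ⊓ V b) x.1 x.2).hom (z a b)
    let T := V a ⊓ V b ⊓ V (k x.1)
    have hx : x.1 ∈ T := ⟨x.2, hk x.1⟩
    have h := congrArg (TopCat.Presheaf.germ Q.obj T x.1 hx).hom
      (hz a b (k x.1) T (inf_le_left.trans inf_le_left) (inf_le_left.trans inf_le_right) inf_le_right)
    rw [map_add, map_sub, map_zero] at h
    simp only [TopCat.Presheaf.germ_res_apply] at h
    rw [sub_add, sub_eq_zero] at h
    rw [h]
    abel
  have hglue : ∃! t : (godSeq Q).X₃.obj.obj (op ⊤),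
      ∀ a, res (godSeq Q).X₃ le_top t = (godSeq Q).g.hom.app (op (V a)) (q' a) := by
    refine TopCat.Sheaf.existsUnique_gluing' (F := ((godSeq Q).X₃ : TopCat.Sheaf AddCommGrpCat.{u} X))
      V ⊤ (fun a => homOfLE le_top) hV.ge (fun a => (godSeq Q).g.hom.app (op (V a)) (q' a)) fun a b => ?_
    refine sub_eq_zero.1 ?_
    show res _ inf_le_left _ - res _ inf_le_right _ = 0
    rw [← res_app, ← res_app, ← map_sub]
    refine (congrArg _ (hq' a b)).trans ?_
    exact ConcreteCategory.congr_hom (NatTrans.congr_app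
      (congrArg (fun φ : (godSeq Q).X₁ ⟶ (godSeq Q).X₃ => φ.hom) (godSeq Q).zero) (op (V a ⊓ V b))) (z a b)
  obtain ⟨t, ht, -⟩ := hglue
  obtain ⟨g, hg⟩ := surjective_sections_of_subsingleton hS ⊤ hQ t
  have hex : ∀ a, ∃ y, (toG Q).hom.app (op (V a)) y = q' a - res G le_top g := fun a => by
    refine exists_sections_of_app_eq_zero hS (V a) _ ?_
    refine (map_sub ((godSeq Q).g.hom.app (op (V a))).hom _ _).trans ?_
    refine (congrArg (_ - ·) (res_app (godSeq Q).g le_top g)).trans ?_
    exact sub_eq_zero.2 ((ht a).symm.trans (congrArg _ hg.symm))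
  choose q hq using hex
  refine ⟨q, fun a b => ?_⟩
  haveI : Mono (toG Q) := Godement.mono_toGod Q
  have := injective_app_of_mono (toG Q) (V a ⊓ V b)
  refine this ?_
  rw [map_sub, res_app, res_app, hq, hq, ← hq', map_sub, map_sub]
  show (res G _ (q' a) - res G _ (res G le_top g)) - (res G _ (q' b) - res G _ (res G le_top g)) = _
  rw [res_res, res_res]
  abel

/-- Two-cocycles are coboundaries when the second cohomology vanishes and the members of the cover are acyclic. -/
theorem exists_one_cochain (hV : ⨆ a, V a = ⊤) (F : CohTop.Ab X) (h2 : Subsingleton (Hn F 2 ⊤))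
    (h1 : ∀ a, Subsingleton (Hn F 1 (V a))) (c : ∀ a b d, F.obj.obj (op (V a ⊓ V b ⊓ V d)))
    (hc : ∀ a b d e (T : Opens X) (ha : T ≤ V a) (hb : T ≤ V b) (hd : T ≤ V d) (he : T ≤ V e),
      res F (le_inf (le_inf hb hd) he) (c b d e) - res F (le_inf (le_inf ha hd) he) (c a d e) +
        res F (le_inf (le_inf ha hb) he) (c a b e) - res F (le_inf (le_inf ha hb) hd) (c a b d) = 0) :
    ∃ b : ∀ a a', F.obj.obj (op (V a ⊓ V a')), ∀ a a' d (T : Opens X) (ha : T ≤ V a) (ha' : T ≤ V a') (hd : T ≤ V d),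
      res F (le_inf (le_inf ha ha') hd) (c a a' d) =
        res F (le_inf ha' hd) (b a' d) - res F (le_inf ha hd) (b a d) + res F (le_inf ha ha') (b a a') := by
  have hk : ∀ x : X, ∃ a, x ∈ V a := fun x => Opens.mem_iSup.1 (hV ▸ trivial)
  choose k hk using hk
  let G := (Godement.god (X := X)).obj F
  let β : ∀ a a', G.obj.obj (op (V a ⊓ V a')) := fun a a' x =>
    (TopCat.Presheaf.germ F.obj (V (k x.1) ⊓ V a ⊓ V a') x.1 ⟨⟨hk x.1, x.2.1⟩, x.2.2⟩).hom (c (k x.1) a a')
  have hS := godSeq_shortExact F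
  have hβ : ∀ a a' d (T : Opens X) (ha : T ≤ V a) (ha' : T ≤ V a') (hd : T ≤ V d),
      res G (le_inf ha' hd) (β a' d) - res G (le_inf ha hd) (β a d) + res G (le_inf ha ha') (β a a') =
        (toG F).hom.app (op T) (res F (le_inf (le_inf ha ha') hd) (c a a' d)) := by
    intro a a' d T ha ha' hd
    funext x
    show (TopCat.Presheaf.germ F.obj _ x.1 _).hom (c (k x.1) a' d) -
        (TopCat.Presheaf.germ F.obj _ x.1 _).hom (c (k x.1) a d) +
        (TopCat.Presheaf.germ F.obj _ x.1 _).hom (c (k x.1) a a') =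
      (TopCat.Presheaf.germ F.obj T x.1 x.2).hom (res F (le_inf (le_inf ha ha') hd) (c a a' d))
    let T' := T ⊓ V (k x.1)
    have hx : x.1 ∈ T' := ⟨x.2, hk x.1⟩
    have h := congrArg (TopCat.Presheaf.germ F.obj T' x.1 hx).hom
      (hc (k x.1) a a' d T' inf_le_right (inf_le_left.trans ha) (inf_le_left.trans ha') (inf_le_left.trans hd))
    rw [map_sub, map_add, map_sub, map_zero] at h
    simp only [TopCat.Presheaf.germ_res_apply] at h ⊢
    rw [sub_add_eq_add_sub, ← sub_eq_zero] at h ⊢
    rw [← neg_eq_zero, ← h]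
    abel
  let z : ∀ a a', (godSeq F).X₃.obj.obj (op (V a ⊓ V a')) := fun a a' =>
    (godSeq F).g.hom.app (op (V a ⊓ V a')) (β a a')
  obtain ⟨q, hq⟩ := exists_zero_cochain hV (godSeq F).X₃ (subsingleton_X₃ F 0 ⊤ h2) z fun a a' d T ha ha' hd => by
    show res _ _ ((godSeq F).g.hom.app _ _) - res _ _ ((godSeq F).g.hom.app _ _) + res _ _ ((godSeq F).g.hom.app _ _) = 0
    rw [← res_app, ← res_app, ← res_app, ← map_sub, ← map_add]
    refine (congrArg _ (hβ a a' d T ha ha' hd)).trans ?_
    exact ConcreteCategory.congr_hom (NatTrans.congr_app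
      (congrArg (fun φ : (godSeq F).X₁ ⟶ (godSeq F).X₃ => φ.hom) (godSeq F).zero) (op T)) _
  choose r hr using fun a => surjective_sections_of_subsingleton hS (V a) (h1 a) (q a)
  have hex : ∀ a a', ∃ y, (toG F).hom.app (op (V a ⊓ V a')) y =
      β a a' - (res G inf_le_left (r a) - res G inf_le_right (r a')) := fun a a' => by
    refine exists_sections_of_app_eq_zero hS _ _ ?_
    show (godSeq F).g.hom.app _ (β a a' - (res G inf_le_left (r a) - res G inf_le_right (r a'))) = 0
    refine (map_sub ((godSeq F).g.hom.app (op (V a ⊓ V a'))).hom _ _).trans (sub_eq_zero.2 ?_)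
    refine Eq.trans ?_ (map_sub ((godSeq F).g.hom.app (op (V a ⊓ V a'))).hom _ _).symm
    rw [← show _ = (godSeq F).g.hom.app (op (V a ⊓ V a')) (β a a') from hq a a', ← hr, ← hr, ← res_app, ← res_app]
    rfl
  choose b hb using hex
  refine ⟨b, fun a a' d T ha ha' hd => ?_⟩
  haveI : Mono (toG F) := Godement.mono_toGod F
  refine injective_app_of_mono (toG F) T ?_
  rw [map_add, map_sub, res_app (toG F) _ (b a' d), res_app (toG F) _ (b a d),
    res_app (toG F) _ (b a a'), hb, hb, hb, ← hβ a a' d T ha ha' hd]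
  show _ = res G _ (β a' d - (res G inf_le_left (r a') - res G inf_le_right (r d))) -
    res G _ (β a d - (res G inf_le_left (r a) - res G inf_le_right (r d))) +
    res G _ (β a a' - (res G inf_le_left (r a) - res G inf_le_right (r a')))
  rw [map_sub, map_sub, map_sub, map_sub, map_sub, map_sub, res_res, res_res, res_res, res_res, res_res, res_res]
  abel

end Groth.Agent.H26Def.CechTwo
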