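import Groth.Agent.H26Def.PicH1
import Groth.Agent.H15Site.ClosedPushAb
import Groth.Agent.H11Tilde.StalkGen
import Groth.Agent.H10Coh.PushAb
import Groth.Prelude.Def_Omega4

/-!
# The comparison of the Picard group with cohomology commutes with pullback
-/

set_option autoImplicit false
set_option linter.style.haveILetI false

noncomputable section

universe u

open CategoryTheory CategoryTheory.Limits AlgebraicGeometry TopologicalSpace Opposite Abelian

namespace Groth.Agent.H26Def.PicH1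

open Groth.Agent.H7Flat.LineCocycle Groth.Agent.H11Tilde Groth.Agent.H10Coh Groth.Agent.H26Def.CechTwo

attribute [local instance 10000] hasSheafifyAb hasWeakSheafifyAb hasExtAb enoughInjAb

variable {X Y : Scheme.{u}} (f : X ⟶ Y)

/-- The map of Godement sheaves over a morphism. -/
def godPull : GU Y ⟶ (CohTop.push f.base).obj (GU X) :=
  ⟨{ app := fun U => AddCommGrpCat.ofHom
      { toFun := fun r x => (TopCat.Presheaf.stalkPushforward AddCommGrpCat.{u} f.base (Un X).obj x.1).hom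
          (((TopCat.Presheaf.stalkFunctor AddCommGrpCat.{u} (f.base x.1)).map (UnitsSh.comap f).hom).hom
            (r ⟨f.base x.1, x.2⟩))
        map_zero' := funext fun _ => (congrArg _ (map_zero _)).trans (map_zero _)
        map_add' := fun _ _ => funext fun _ => (congrArg _ (map_add _ _ _)).trans (map_add _ _ _) }
     naturality := fun _ _ _ => rfl }⟩

theorem toG_godPull :
    toG (Un Y) ≫ godPull f = UnitsSh.comap f ≫ (CohTop.push f.base).map (toG (Un X)) := by
  refine CategoryTheory.Sheaf.hom_ext ?_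
  ext U s
  funext x
  show (TopCat.Presheaf.stalkPushforward AddCommGrpCat.{u} f.base (Un X).obj x.1).hom
      (((TopCat.Presheaf.stalkFunctor AddCommGrpCat.{u} (f.base x.1)).map (UnitsSh.comap f).hom).hom
        ((TopCat.Presheaf.germ (Un Y).obj U.unop (f.base x.1) x.2).hom s)) = _
  refine (congrArg _ (TopCat.Presheaf.stalkFunctor_map_germ_apply U.unop (f.base x.1) x.2
    (UnitsSh.comap f).hom s)).trans ?_
  exact ConcreteCategory.congr_hom
    (TopCat.Presheaf.stalkPushforward_germ AddCommGrpCat.{u} f.base (Un X).obj U.unop x.1 x.2) _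

/-- The map of Godement quotients over a morphism. -/
def quotPull : QU Y ⟶ (CohTop.push f.base).obj (QU X) :=
  cokernel.desc (toG (Un Y)) (godPull f ≫ (CohTop.push f.base).map (godSeq (Un X)).g) (by
    rw [← Category.assoc, toG_godPull, Category.assoc, ← Functor.map_comp]
    rw [show toG (Un X) ≫ (godSeq (Un X)).g = 0 from (godSeq (Un X)).zero, Functor.map_zero, comp_zero])

theorem gq_quotPull : (godSeq (Un Y)).g ≫ quotPull f = godPull f ≫ (CohTop.push f.base).map (godSeq (Un X)).g :=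
  cokernel.π_desc _ _ _

/-- `godPull` on sections. -/
def gp (U : Y.Opens) : (GU Y).obj.obj (op U) →+ (GU X).obj.obj (op (f ⁻¹ᵁ U)) :=
  ((godPull f).hom.app (op U)).hom

/-- `quotPull` on sections. -/
def qp (U : Y.Opens) : (QU Y).obj.obj (op U) →+ (QU X).obj.obj (op (f ⁻¹ᵁ U)) :=
  ((quotPull f).hom.app (op U)).hom

theorem gp_res {U V : Y.Opens} (h : V ≤ U) (r : (GU Y).obj.obj (op U)) :
    gp f V (res (GU Y) h r) = res (GU X) (f.preimage_mono h) (gp f U r) := res_app (godPull f) h r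

theorem qp_res {U V : Y.Opens} (h : V ≤ U) (r : (QU Y).obj.obj (op U)) :
    qp f V (res (QU Y) h r) = res (QU X) (f.preimage_mono h) (qp f U r) := res_app (quotPull f) h r

theorem gq_gp (U : Y.Opens) (r : (GU Y).obj.obj (op U)) : gq X (f ⁻¹ᵁ U) (gp f U r) = qp f U (gq Y U r) :=
  (ConcreteCategory.congr_hom (congrArg (fun φ => φ.hom.app (op U)) (gq_quotPull f)) r).symm

/-- The pullback of a unit. -/
def cm (U : Y.Opens) : (Un Y).obj.obj (op U) →+ (Un X).obj.obj (op (f ⁻¹ᵁ U)) :=
  ((UnitsSh.comap f).hom.app (op U)).hom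

theorem uval_cm (U : Y.Opens) (s : (Un Y).obj.obj (op U)) : uval (cm f U s) = f.app U (uval s) := rfl

theorem gp_iu (U : Y.Opens) (s : (Un Y).obj.obj (op U)) : gp f U (iu Y U s) = iu X (f ⁻¹ᵁ U) (cm f U s) :=
  ConcreteCategory.congr_hom (congrArg (fun φ => φ.hom.app (op U)) (toG_godPull f)) s

theorem Rep.pullback {t : (QU Y).obj.obj (op ⊤)} {L : Y.Modules} (h : Rep t L) :
    Rep (X := X) (qp f ⊤ t) ((Scheme.Modules.pullback f).obj L) := by
  obtain ⟨J, V, e, r, hV, he, hr, hc⟩ := h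
  refine ⟨J, fun a => f ⁻¹ᵁ V a, fun a => OmegaSh.pullSect f L (V a) (e a), fun a => gp f (V a) (r a),
    fun x => hV (f.base x), fun a => (he a).pullSect f, fun a => ?_, fun a b T ha hb w hw => ?_⟩
  · rw [gq_gp, hr, qp_res]
    rfl
  · obtain ⟨s, hs⟩ := exists_trans (hr a) (hr b) (inf_le_left : V a ⊓ V b ≤ V a) inf_le_right
    have hT : T ≤ f ⁻¹ᵁ (V a ⊓ V b) := le_inf ha hb
    have hw' : w = res (Un X) hT (cm f (V a ⊓ V b) s) := by
      refine iu_injective T ?_
      rw [hw, iu_res, ← gp_iu, hs, map_sub, gp_res, gp_res, map_sub, CechTwo.res_res, CechTwo.res_res]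
    have h2 := congrArg (OmegaSh.pullSect f L (V a ⊓ V b)) (hc a b (V a ⊓ V b) inf_le_left inf_le_right s hs)
    rw [OmegaSh.pullSect_map, OmegaSh.pullSect_smul, OmegaSh.pullSect_map] at h2
    have h3 := congrArg (((Scheme.Modules.pullback f).obj L).presheaf.map (homOfLE hT).op) h2
    rw [Scheme.Modules.map_smul, H10Coh.mres_mres, H10Coh.mres_mres] at h3
    rw [hw', uval_res, uval_cm]
    exact h3

theorem toPic_qp [PicGrp.Law X] [PicGrp.Law Y] (hf : PicGrp.PullMul f) (t : (QU Y).obj.obj (op ⊤)) :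
    toPic X (qp f ⊤ t) = Additive.ofMul (PicGrp.pullHom f hf (Additive.toMul (toPic Y t))) := by
  refine congrArg Additive.ofMul (Subtype.ext ?_)
  exact (PicGrp.cl_eq_cl_iff _ _).2 ((exists_rep _).choose_spec.2.unique ((exists_rep t).choose_spec.2.pullback f))

section

variable [IsClosedImmersion f]

/-- The direct image of the Godement sequence. -/
def pushSeq : ShortComplex (CohTop.Ab Y.toTopCat) := (godSeq (Un X)).map (CohTop.push f.base)

theorem pushSeq_shortExact : (pushSeq f).ShortExact :=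
  haveI := H15Site.ClosedPushAb.push_preservesFiniteColimits f.base f.isClosedEmbedding
  haveI := H15Site.ClosedPushAb.push_preservesFiniteLimits f.base
  (godSeq_shortExact (Un X)).map_of_exact _

theorem subsingleton_pushSeq_X₂ (n : ℕ) (U : Y.Opens) : Subsingleton (Hn (pushSeq f).X₂ (n + 1) U) :=
  subsingleton_of_flasque (H10Coh.flasque_push f.base (H15Site.Godement.flasque_god (Un X))) n U

/-- The connecting map of the direct image of the Godement sequence. -/
def pushH1 : (QU X).obj.obj (op ⊤) →+ Hn (pushSeq f).X₁ 1 (⊤ : Y.Opens) :=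
  AddMonoidHom.mk' (fun t => ((H0Equiv (pushSeq f).X₃ (⊤ : Y.Opens)).symm t).comp (pushSeq_shortExact f).extClass rfl)
    fun a b => (congrArg (fun z => z.comp (pushSeq_shortExact f).extClass rfl)
      (map_add (H0Equiv (pushSeq f).X₃ (⊤ : Y.Opens)).symm a b)).trans (Ext.add_comp _ _ _ _)

theorem pushH1_surjective : Function.Surjective (pushH1 f) := fun x => by
  haveI : Subsingleton (Ext.{u} (Zsh (⊤ : Opens Y.toTopCat)) (pushSeq f).X₂ 1) := subsingleton_pushSeq_X₂ f 0 ⊤
  obtain ⟨q, hq⟩ := Ext.covariant_sequence_exact₁ _ (pushSeq_shortExact f) x (Subsingleton.elim _ _) rfl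
  refine ⟨H0Equiv (pushSeq f).X₃ (⊤ : Y.Opens) q, ?_⟩
  show ((H0Equiv (pushSeq f).X₃ (⊤ : Y.Opens)).symm (H0Equiv (pushSeq f).X₃ (⊤ : Y.Opens) q)).comp (pushSeq_shortExact f).extClass rfl = x
  rw [AddEquiv.symm_apply_apply]
  exact hq

theorem pushH1_eq_zero_iff (t : (QU X).obj.obj (op ⊤)) : pushH1 f t = 0 ↔ ∃ g, gq X ⊤ g = t := by
  constructor
  · intro h
    obtain ⟨y, hy⟩ := Ext.covariant_sequence_exact₃ _ (pushSeq_shortExact f) _ rfl h
    refine ⟨H0Equiv (pushSeq f).X₂ (⊤ : Y.Opens) y, Eq.trans ?_ ((congrArg (H0Equiv (pushSeq f).X₃ (⊤ : Y.Opens)) hy).trans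
        ((H0Equiv (pushSeq f).X₃ (⊤ : Y.Opens)).apply_symm_apply t))⟩
    exact (H0Equiv_map (pushSeq f).g y).symm
  · rintro ⟨g, rfl⟩
    show ((H0Equiv _ ⊤).symm _).comp (pushSeq_shortExact f).extClass rfl = 0
    rw [show (H0Equiv (pushSeq f).X₃ (⊤ : Y.Opens)).symm (gq X ⊤ g) =
      ((H0Equiv (pushSeq f).X₂ (⊤ : Y.Opens)).symm g).comp (Ext.mk₀ (pushSeq f).g) (add_zero 0) from
      (H0Equiv _ ⊤).injective (by
        rw [AddEquiv.apply_symm_apply, H0Equiv_map, AddEquiv.apply_symm_apply]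
        rfl)]
    rw [Ext.comp_assoc _ _ _ (add_zero 0) (zero_add 1) rfl, ShortComplex.ShortExact.comp_extClass, Ext.comp_zero]

theorem toH1_comp_comap (t : (QU Y).obj.obj (op ⊤)) :
    (toH1 (Un Y) t).comp (Ext.mk₀ (UnitsSh.comap f)) (add_zero 1) = pushH1 f (qp f ⊤ t) := by
  let φ : godSeq (Un Y) ⟶ pushSeq f :=
    { τ₁ := UnitsSh.comap f
      τ₂ := godPull f
      τ₃ := quotPull f
      comm₁₂ := (toG_godPull f).symm
      comm₂₃ := (gq_quotPull f).symm }
  show (((H0Equiv (QU Y) ⊤).symm t).comp (godSeq_shortExact (Un Y)).extClass rfl).comp (Ext.mk₀ φ.τ₁) (add_zero 1) = _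
  rw [Ext.comp_assoc _ _ _ (zero_add 1) (add_zero 1) rfl,
    ShortComplex.ShortExact.extClass_naturality (godSeq_shortExact (Un Y)) (pushSeq_shortExact f) φ,
    ← Ext.comp_assoc _ _ _ (add_zero 0) (zero_add 1) rfl]
  refine congrArg (fun z => Ext.comp z _ (zero_add 1)) ?_
  refine (H0Equiv (pushSeq f).X₃ (⊤ : Y.Opens)).injective ?_
  rw [H0Equiv_map, AddEquiv.apply_symm_apply, AddEquiv.apply_symm_apply]
  rfl

end

theorem exists_addEquiv_of_ker_eq {A B C : Type*} [AddCommGroup A] [AddCommGroup B] [AddCommGroup C]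
    (p : A →+ B) (q : A →+ C) (hp : Function.Surjective p) (hq : Function.Surjective q) (h : p.ker = q.ker) :
    ∃ e : B ≃+ C, ∀ a, e (p a) = q a := by
  choose g hg using hp
  have hw : ∀ a, q (g (p a)) = q a := fun a => by
    have hm : g (p a) - a ∈ q.ker := h ▸ (by rw [AddMonoidHom.mem_ker, map_sub, hg, sub_self])
    rwa [AddMonoidHom.mem_ker, map_sub, sub_eq_zero] at hm
  let L : B →+ C := AddMonoidHom.mk' (fun b => q (g b)) fun b b' => by
    rw [← map_add q, ← hw (g b + g b'), map_add p, hg, hg]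
  refine ⟨AddEquiv.ofBijective L ⟨?_, fun c => ?_⟩, hw⟩
  · refine (injective_iff_map_eq_zero _).2 fun b hb => ?_
    have hm : g b ∈ p.ker := h ▸ (hb : q (g b) = 0)
    rwa [AddMonoidHom.mem_ker, hg] at hm
  · obtain ⟨a, rfl⟩ := hq c
    exact ⟨p a, hw a⟩

end Groth.Agent.H26Def.PicH1
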