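import Groth.Agent.H26Def.PicH1Pull
import Groth.Agent.S15747

/-!
# The units sequence of a square-zero thickening
-/

set_option autoImplicit false
set_option linter.style.haveILetI false

noncomputable section

universe u

open CategoryTheory CategoryTheory.Limits AlgebraicGeometry TopologicalSpace Opposite Abelian

namespace Groth.Agent.H26Def.PicSeq

open Groth.Agent.H10Coh Groth.Agent.H26Def.PicH1

attribute [local instance 10000] hasSheafifyAb hasWeakSheafifyAb hasExtAb enoughInjAb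

theorem exists_seq (X' : Scheme.{u}) (I : X'.IdealSheafData) (hI : I * I = ⊥)
    [PicGrp.Law X'] [PicGrp.Law I.subscheme] (hi : PicGrp.PullMul I.subschemeι) :
    ∃ (ε : Multiplicative (Coh.HH X' (ClSub.idealMod I) 0) →* (Γ(X', ⊤))ˣ)
      (δ₀ : (Γ(I.subscheme, ⊤))ˣ →* Multiplicative (Coh.HH X' (ClSub.idealMod I) 1))
      (α : Multiplicative (Coh.HH X' (ClSub.idealMod I) 1) →* PicLoc.PicSet X')
      (δ₁ : PicLoc.PicSet I.subscheme →* Multiplicative (Coh.HH X' (ClSub.idealMod I) 2)),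
      Function.Injective ε ∧
      (Units.map I.subschemeι.appTop.hom.toMonoidHom).ker = ε.range ∧
      δ₀.ker = (Units.map I.subschemeι.appTop.hom.toMonoidHom).range ∧
      α.ker = δ₀.range ∧
      (PicGrp.pullHom I.subschemeι hi).ker = α.range ∧
      δ₁.ker = (PicGrp.pullHom I.subschemeι hi).range := by
  obtain ⟨φ, -, w, hS⟩ := Groth.Agent.S15747.result X' I hI
  let ι := I.subschemeι
  let J : CohTop.Ab X'.toTopCat := Coh.toAb (ClSub.idealMod I)
  let P : CohTop.Ab X'.toTopCat := (CohTop.push ι.base).obj (Un I.subscheme)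
  let T : ∀ n, Coh.HH X' (ClSub.idealMod I) n ≃+ Hn J n (⊤ : X'.Opens) := fun n => topEquiv J n
  obtain ⟨eY, heY⟩ := exists_addEquiv_of_ker_eq (toPic X') (toH1 (Un X')) (toPic_surjective X')
    (toH1_surjective _) (by
      ext t
      rw [AddMonoidHom.mem_ker, AddMonoidHom.mem_ker, toPic_eq_zero_iff, toH1_eq_zero_iff]
      rfl)
  obtain ⟨eX, heX⟩ := exists_addEquiv_of_ker_eq (toPic I.subscheme) (pushH1 ι) (toPic_surjective _)
    (pushH1_surjective ι) (by
      ext t
      rw [AddMonoidHom.mem_ker, AddMonoidHom.mem_ker, toPic_eq_zero_iff, pushH1_eq_zero_iff])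
  have hsq : ∀ c : PicLoc.PicSet X', eX (Additive.ofMul (PicGrp.pullHom ι hi c)) =
      (eY (Additive.ofMul c)).comp (Ext.mk₀ (UnitsSh.comap ι)) (add_zero 1) := by
    intro c
    obtain ⟨t, ht⟩ := toPic_surjective X' (Additive.ofMul c)
    have hc : c = Additive.toMul (toPic X' t) := by rw [ht]; rfl
    rw [← ht, heY, toH1_comp_comap ι t, ← heX, toPic_qp ι hi t, ← hc]
  let EY := H0Equiv (Un X') (⊤ : X'.Opens)
  let EP := H0Equiv P (⊤ : X'.Opens)
  let EJ := H0Equiv J (⊤ : X'.Opens)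
  let u₀ : (Γ(X', ⊤))ˣ → (Un X').obj.obj (op ⊤) := fun v => UnitsSh.sectOfUnit (O := X'.presheaf) v
  let p₀ : (Γ(I.subscheme, ⊤))ˣ → P.obj.obj (op ⊤) := fun v => UnitsSh.sectOfUnit (O := I.subscheme.presheaf) v
  have hup : ∀ v, (UnitsSh.comap ι).hom.app (op ⊤) (u₀ v) = p₀ (Units.map ι.appTop.hom.toMonoidHom v) :=
    fun _ => rfl
  let ε : Multiplicative (Coh.HH X' (ClSub.idealMod I) 0) →* (Γ(X', ⊤))ˣ :=
    MonoidHom.mk' (fun a => UnitsSh.unitOfSect (O := X'.presheaf) (φ.hom.app (op ⊤) (EJ (T 0 a.toAdd))))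
      fun a b => by
        rw [toAdd_mul, map_add, map_add]
        refine (congrArg _ (map_add (φ.hom.app (op ⊤)).hom _ _)).trans ?_
        rfl
  let δ₀ : (Γ(I.subscheme, ⊤))ˣ →* Multiplicative (Coh.HH X' (ClSub.idealMod I) 1) :=
    MonoidHom.mk' (fun v => Multiplicative.ofAdd ((T 1).symm ((EP.symm (p₀ v)).comp hS.extClass rfl)))
      fun a b => by
        rw [← ofAdd_add, ← map_add]
        refine congrArg (fun z => Multiplicative.ofAdd ((T 1).symm z)) ?_
        refine Eq.trans ?_ (Ext.add_comp _ _ _ _)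
        exact congrArg (fun z => Ext.comp z hS.extClass rfl) ((congrArg EP.symm rfl).trans (map_add EP.symm (p₀ a) (p₀ b)))
  let α : Multiplicative (Coh.HH X' (ClSub.idealMod I) 1) →* PicLoc.PicSet X' :=
    MonoidHom.mk' (fun a => Additive.toMul (eY.symm ((T 1 a.toAdd).comp (Ext.mk₀ φ) (add_zero 1))))
      fun a b => by
        rw [← toMul_add, ← map_add, toAdd_mul, map_add]
        exact congrArg (fun z => Additive.toMul (eY.symm z)) (Ext.add_comp _ _ _ _)
  let δ₁ : PicLoc.PicSet I.subscheme →* Multiplicative (Coh.HH X' (ClSub.idealMod I) 2) :=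
    MonoidHom.mk' (fun c => Multiplicative.ofAdd ((T 2).symm ((eX (Additive.ofMul c)).comp hS.extClass rfl)))
      fun a b => by
        rw [← ofAdd_add, ← map_add, ofMul_mul, map_add]
        exact congrArg (fun z => Multiplicative.ofAdd ((T 2).symm z)) (Ext.add_comp _ _ _ _)
  haveI : Mono φ := hS.mono_f
  refine ⟨ε, δ₀, α, δ₁, ?_, ?_, ?_, ?_, ?_, ?_⟩
  · intro a b h
    exact Multiplicative.toAdd.injective ((T 0).injective (EJ.injective
      (injective_app_of_mono φ ⊤ ((Additive.ofMul (α := (Γ(X', ⊤))ˣ)).injective h))))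
  · ext v
    constructor
    · intro hv
      obtain ⟨x, hx⟩ := Ext.covariant_sequence_exact₂ _ hS (EY.symm (u₀ v)) (by
        refine EP.injective ((H0Equiv_map _ _).trans ?_)
        rw [AddEquiv.apply_symm_apply, map_zero]
        refine (hup v).trans ?_
        rw [MonoidHom.mem_ker.1 hv]
        rfl)
      refine ⟨Multiplicative.ofAdd ((T 0).symm x), ?_⟩
      show UnitsSh.unitOfSect (O := X'.presheaf) (φ.hom.app (op ⊤) (EJ (T 0 ((T 0).symm x)))) = v
      rw [AddEquiv.apply_symm_apply, ← H0Equiv_map, hx, AddEquiv.apply_symm_apply]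
      rfl
    · rintro ⟨a, rfl⟩
      rw [MonoidHom.mem_ker]
      exact (Additive.ofMul (α := (Γ(I.subscheme, ⊤))ˣ)).injective (ConcreteCategory.congr_hom
        (congrArg (fun ψ => ψ.hom.app (op ⊤)) w) (EJ (T 0 a.toAdd)))
  · ext v
    rw [MonoidHom.mem_ker]
    constructor
    · intro hv
      obtain ⟨x, hx⟩ := Ext.covariant_sequence_exact₃ _ hS (EP.symm (p₀ v)) rfl
        ((T 1).symm.map_eq_zero_iff.1 (ofAdd_eq_one.1 hv))
      refine ⟨UnitsSh.unitOfSect (O := X'.presheaf) (EY x), ?_⟩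
      have h := congrArg EP hx
      rw [H0Equiv_map, AddEquiv.apply_symm_apply] at h
      exact (Additive.ofMul (α := (Γ(I.subscheme, ⊤))ˣ)).injective h
    · rintro ⟨v', rfl⟩
      refine ofAdd_eq_one.2 ((T 1).symm.map_eq_zero_iff.2 ?_)
      rw [show EP.symm (p₀ (Units.map ι.appTop.hom.toMonoidHom v')) =
        (EY.symm (u₀ v')).comp (Ext.mk₀ (UnitsSh.comap ι)) (add_zero 0) from
        EP.injective (by rw [AddEquiv.apply_symm_apply, H0Equiv_map, AddEquiv.apply_symm_apply]; exact (hup v').symm)]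
      rw [Ext.comp_assoc _ _ _ (add_zero 0) (zero_add 1) rfl, hS.comp_extClass, Ext.comp_zero]
  · ext a
    rw [MonoidHom.mem_ker]
    constructor
    · intro ha
      have ha' : (T 1 a.toAdd).comp (Ext.mk₀ φ) (add_zero 1) = 0 := eY.symm.map_eq_zero_iff.1 ha
      obtain ⟨x, hx⟩ := Ext.covariant_sequence_exact₁ _ hS _ ha' rfl
      refine ⟨UnitsSh.unitOfSect (O := I.subscheme.presheaf) (EP x), ?_⟩
      show Multiplicative.ofAdd ((T 1).symm ((EP.symm (EP x)).comp hS.extClass rfl)) = a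
      rw [AddEquiv.symm_apply_apply, hx, AddEquiv.symm_apply_apply, ofAdd_toAdd]
    · rintro ⟨v, rfl⟩
      show Additive.toMul (eY.symm ((T 1 ((T 1).symm ((EP.symm (p₀ v)).comp hS.extClass rfl))).comp (Ext.mk₀ φ) _)) = 1
      rw [AddEquiv.apply_symm_apply, Ext.comp_assoc _ _ _ (zero_add 1) (add_zero 1) rfl, hS.extClass_comp,
        Ext.comp_zero, map_zero, toMul_zero]
  · ext c
    rw [MonoidHom.mem_ker]
    constructor
    · intro hc
      have hc' : (eY (Additive.ofMul c)).comp (Ext.mk₀ (UnitsSh.comap ι)) (add_zero 1) = 0 := by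
        rw [← hsq, hc, ofMul_one, map_zero]
        rfl
      obtain ⟨x, hx⟩ := Ext.covariant_sequence_exact₂ _ hS _ hc'
      refine ⟨Multiplicative.ofAdd ((T 1).symm x), ?_⟩
      show Additive.toMul (eY.symm ((T 1 ((T 1).symm x)).comp (Ext.mk₀ φ) _)) = c
      rw [AddEquiv.apply_symm_apply, hx, AddEquiv.symm_apply_apply, toMul_ofMul]
    · rintro ⟨a, rfl⟩
      refine (Additive.ofMul (α := PicLoc.PicSet I.subscheme)).injective (eX.injective ?_)
      rw [hsq, ofMul_one, map_zero]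
      show (eY (Additive.ofMul (Additive.toMul (eY.symm ((T 1 a.toAdd).comp (Ext.mk₀ φ) _))))).comp
        (Ext.mk₀ (UnitsSh.comap ι)) _ = 0
      rw [ofMul_toMul, AddEquiv.apply_symm_apply, Ext.comp_assoc_of_third_deg_zero, Ext.mk₀_comp_mk₀, w,
        Ext.mk₀_zero, Ext.comp_zero]
  · ext c
    rw [MonoidHom.mem_ker]
    constructor
    · intro hc
      obtain ⟨x, hx⟩ := Ext.covariant_sequence_exact₃ _ hS (eX (Additive.ofMul c)) rfl
        ((T 2).symm.map_eq_zero_iff.1 (ofAdd_eq_one.1 hc))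
      refine ⟨Additive.toMul (eY.symm x), ?_⟩
      refine (Additive.ofMul (α := PicLoc.PicSet I.subscheme)).injective (eX.injective ?_)
      rw [hsq, ofMul_toMul, AddEquiv.apply_symm_apply]
      exact hx
    · rintro ⟨d, rfl⟩
      refine ofAdd_eq_one.2 ((T 2).symm.map_eq_zero_iff.2 ?_)
      rw [hsq]
      refine (Ext.comp_assoc _ (Ext.mk₀ (UnitsSh.comap ι)) hS.extClass (add_zero 1) (zero_add 1) rfl).trans ?_
      refine (congrArg (fun z => Ext.comp (eY (Additive.ofMul d)) z rfl) hS.comp_extClass).trans ?_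
      exact Ext.comp_zero _ _ _ _ rfl

end Groth.Agent.H26Def.PicSeq
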